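import Groth.Agent.AssDimLoci.Ring
import Groth.Agent.LC.GorLoc
import Groth.Prelude.Def_MoreMor

/-!
# The fibre dimension of a morphism with Cohen-Macaulay fibres is locally constant
-/

set_option autoImplicit false
set_option linter.style.haveILetI false
set_option linter.deprecated false
set_option backward.isDefEq.respectTransparency false
set_option backward.isDefEq.respectTransparency.types false

universe u

open AlgebraicGeometry CategoryTheory

namespace Groth.Agent.CMRelDim

theorem isEquidim_of_CM (R : Type u) [CommRing R] [LocCoh.IsCohenMacaulayLocalRing R] :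
    EGA4.IsEquidim R := by
  intro p hp
  haveI := hp.1.1
  have h := LC.height_add_ringKrullDim_quotient p (Ideal.IsPrime.ne_top ‹_›)
  rw [Ideal.height_eq_zero_iff.2 hp] at h
  simpa using h

theorem hasSk_of_CM (R : Type u) [CommRing R] [LocCoh.IsCohenMacaulayLocalRing R] (k : ℕ) :
    LocCoh.HasSk k R R := by
  rw [FlatLoc6.hasSk_self_iff]
  intro p _
  rw [← FlatLoc6.depth_self_atPrime, LC.depth_localized_self p]
  exact min_le_right _ _

variable {X Y : Scheme.{u}} (f : X ⟶ Y) [LocallyOfFinitePresentation f] [Flat f]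

open AssDimLoci in
/-- Near a Cohen-Macaulay point the fibre dimension is constant. -/
theorem exists_nhd_fibreDimAt_eq (x : X)
    (hcm : LocCoh.IsCohenMacaulayLocalRing ((f.fiber (f x)).presheaf.stalk (f.asFiber x))) :
    ∃ U : X.Opens, x ∈ U ∧ ∀ x' ∈ U, FlatMor.fibreDimAt f x' = FlatMor.fibreDimAt f x := by
  let F := Coh.structureModule X
  have D := depthData f F isFP_structureModule (isFlatOver_structureModule f)
  have hsupp : ∀ z : X, z ∈ CohB1.support F := by
    intro z
    show ¬ Subsingleton (F.presheaf.stalk z)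
    rw [not_subsingleton_iff_nontrivial]
    exact (KFlatLib.stalkUnitEquiv z).toEquiv.symm.nontrivial
  haveI := hcm
  obtain ⟨hE, -⟩ := (equidim_noEmb_sk_iff f (k := 1) le_rfl (f x) (f.asFiber x)).1
    ⟨isEquidim_of_CM _, hasSk_of_CM _ 1⟩
  rw [f.fiberι_asFiber] at hE
  obtain ⟨w, hwx, hfw, he, hmax⟩ := FibDim.exists_fibreDimAt_eq f x
  have hw0 : fdepth f F w = 0 := D.maximal w (hsupp w) fun t _ hg => by
    by_contra hne
    have h1 := FibDim.rd_lt f hg.1 hne hg.2
    have h2 := hmax t (hg.1.trans hwx) (hg.2.trans hfw)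
    omega
  refine ⟨⟨_, D.isOpen_dims {FibDim.rd f w}⟩, fun t ht hg => ?_, fun x' hx' => ?_⟩
  · exact hE t w ht hw0 hg ⟨hwx, hfw⟩
  · obtain ⟨w', hwx', hfw', he', hmax'⟩ := FibDim.exists_fibreDimAt_eq f x'
    have hw0' : fdepth f F w' = 0 := D.maximal w' (hsupp w') fun t _ hg => by
      by_contra hne
      have h1 := FibDim.rd_lt f hg.1 hne hg.2
      have h2 := hmax' t (hg.1.trans hwx') (hg.2.trans hfw')
      omega
    rw [he, he', Set.mem_singleton_iff.1 (hx' w' hw0' ⟨hwx', hfw'⟩)]

end Groth.Agent.CMRelDim
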