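import Groth.Agent.FibDim.LocDim
import Groth.Agent.CMRelDim.Basic

/-!
# Local dimension along a flat morphism of constant fibre dimension
-/

set_option autoImplicit false
set_option linter.style.haveILetI false

open AlgebraicGeometry CategoryTheory Limits Topology

namespace Groth.Agent.CMRelDim

open FibDim (rd rd_eq_rdeg rd_opens topologicalKrullDim_opens)

universe u

variable {X Y : Scheme.{u}}

theorem localDim_eq_add_of_sum (f : X ⟶ Y) [Flat f] [LocallyOfFiniteType f] [IsLocallyNoetherian X]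
    [IsLocallyNoetherian Y] {d : ℕ}
    (hsum : ∀ z, FibDim.rd f z + DimFormula.fb f z = d) (x : X) :
    FlatMor.localDim ↥X x = FlatMor.localDim ↥Y (f x) + (d : WithBot ℕ∞) := by
  haveI : LocallyOfFinitePresentation f := LocallyOfFinitePresentation.iff_locallyOfFiniteType.2 ‹_›
  refine le_antisymm ?_ (le_iInf fun U => ?_)
  · haveI : Nonempty {V : TopologicalSpace.Opens ↥Y // f x ∈ V} := ⟨⟨⊤, trivial⟩⟩
    obtain ⟨⟨V, hV⟩, he⟩ := ciInf_mem fun V : {V : TopologicalSpace.Opens ↥Y // f x ∈ V} =>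
      topologicalKrullDim (V.1 : Set Y)
    rw [FlatMor.localDim, FlatMor.localDim, ← he]
    refine iInf_le_of_le ⟨f ⁻¹ᵁ V, hV⟩ ?_
    dsimp only
    rw [topologicalKrullDim_opens]
    refine iSup_le fun u => ?_
    rw [topologicalKrullDim_opens]
    refine le_trans ?_ (add_le_add (le_iSup
      (fun v : (V : Set Y) => ((DimFormula.codim v.1 : ℕ∞) : WithBot ℕ∞)) ⟨f u.1, u.2⟩) le_rfl)
    have h1 := DimFormula.codim_le_add f u.1
    have h2 := hsum u.1
    exact_mod_cast (show DimFormula.codim u.1 ≤ DimFormula.codim (f u.1) + d by omega)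
  · obtain ⟨U, hU⟩ := U
    let V : TopologicalSpace.Opens ↥Y := ⟨f '' U, f.isOpenMap _ U.isOpen⟩
    refine (add_le_add (iInf_le (fun V : {V : TopologicalSpace.Opens ↥Y // f x ∈ V} =>
      topologicalKrullDim (V.1 : Set Y)) ⟨V, ⟨x, hU, rfl⟩⟩) le_rfl).trans ?_
    dsimp only
    rw [topologicalKrullDim_opens (X := Y) V, topologicalKrullDim_opens (X := X) U]
    haveI : Nonempty ↥(V : Set Y) := ⟨⟨f x, x, hU, rfl⟩⟩
    obtain ⟨u₀, hu₀⟩ : ∃ u₀ : (U : Set X), u₀.1 = x := ⟨⟨x, hU⟩, rfl⟩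
    have key : ∀ v : (V : Set Y), ∃ u : (U : Set X), DimFormula.codim v.1 + d ≤ DimFormula.codim u.1 := by
      rintro ⟨_, w, hw, rfl⟩
      let U' : X.Opens := U
      obtain ⟨c, hc, hc0⟩ := VarDim.exists_fdeg_eq_zero (U'.ι ≫ f) (y := f w) ⟨⟨w, hw⟩, rfl⟩
      have hrd : rd f (U'.ι c) = 0 := by
        rw [← rd_opens]
        have := rd_eq_rdeg (U'.ι ≫ f) c
        rw [VarDim.fdeg, ← this] at hc0
        simpa using hc0
      obtain ⟨z, -, hfz, -, hzle, -⟩ := DimFormula.codim_add_fb_le f (U'.ι c)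
      refine ⟨⟨U'.ι c, c.2⟩, ?_⟩
      have h1 := CycLib.codim_flat_le f z
      have h2 := hsum (U'.ι c)
      have h3 : f z = f w := hfz.trans hc
      rw [h3] at h1
      show DimFormula.codim (f w) + d ≤ DimFormula.codim (U'.ι c)
      omega
    obtain ⟨v, hv⟩ | hb : (∃ v : (V : Set Y), ∀ v' : (V : Set Y),
        DimFormula.codim v'.1 ≤ DimFormula.codim v.1) ∨ ¬ BddAbove (Set.range fun v : (V : Set Y) => DimFormula.codim v.1) := by
      by_cases hb : BddAbove (Set.range fun v : (V : Set Y) => DimFormula.codim v.1)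
      · obtain ⟨v, hv⟩ := Nat.sSup_mem (Set.range_nonempty _) hb
        exact Or.inl ⟨v, fun v' => hv.ge.trans' (le_csSup hb ⟨v', rfl⟩)⟩
      · exact Or.inr hb
    · obtain ⟨u, hu⟩ := key v
      refine le_trans (b := ((DimFormula.codim v.1 : ℕ∞) : WithBot ℕ∞) + (d : WithBot ℕ∞))
        (add_le_add (iSup_le fun v' => ?_) le_rfl)
        (le_trans ?_ (le_iSup (fun u : (U : Set X) => ((DimFormula.codim u.1 : ℕ∞) : WithBot ℕ∞)) u))
      · exact (show ((DimFormula.codim v'.1 : ℕ∞) : WithBot ℕ∞) ≤ ((DimFormula.codim v.1 : ℕ∞) : WithBot ℕ∞) by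
          exact_mod_cast hv v')
      · exact_mod_cast hu
    · refine le_of_le_of_eq le_top (eq_top_iff.2 ?_).symm
      refine le_iSup_iff.2 fun b hb' => ?_
      induction b with
      | bot => exact absurd (hb' u₀) (by simp)
      | coe b =>
        induction b with
        | top => exact le_rfl
        | coe n =>
          exfalso
          refine hb ⟨n, ?_⟩
          rintro _ ⟨v, rfl⟩
          obtain ⟨u, hu⟩ := key v
          have := hb' u
          have h' : DimFormula.codim u.1 ≤ n := by exact_mod_cast this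
          show DimFormula.codim v.1 ≤ n
          omega

theorem localDim_opens (U : X.Opens) (u : (U : Scheme.{u})) :
    FlatMor.localDim ↥(U : Scheme.{u}) u = FlatMor.localDim ↥X (U.ι u) := by
  have ho := U.ι.isOpenEmbedding
  refine le_antisymm (le_iInf fun W => ?_) (le_iInf fun W => ?_)
  · obtain ⟨W, hW⟩ := W
    refine iInf_le_of_le ⟨⟨U.ι ⁻¹' W, W.isOpen.preimage ho.continuous⟩, hW⟩ ?_
    exact ((ho.isEmbedding.restrictPreimage (W : Set X)).isInducing.topologicalKrullDim_le)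
  · obtain ⟨W, hW⟩ := W
    refine iInf_le_of_le ⟨⟨U.ι '' W, ho.isOpenMap _ W.isOpen⟩, u, hW, rfl⟩ ?_
    exact le_of_eq (ho.isEmbedding.homeomorphImage (W : Set ↥(U : Scheme.{u}))).isHomeomorph.topologicalKrullDim_eq.symm

end Groth.Agent.CMRelDim
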